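import Cfsg.Agent.Lib.Char.PowerExtension
import Cfsg.Agent.Lib.Char.Constituents

/-!
# A small character, rational at `p`-elements, faithful on a normal `p'`-subgroup

Over every orbit of constituents the canonical extension to the inertia group is induced.
-/

set_option autoImplicit false

namespace CfsgLib.LinearPSolvable

open Cfsg CfsgLib.Char

variable {H : Type*} [Group H] [Fintype H] (Q : Subgroup H) [hQn : Q.Normal] {p : ℕ} [hp : Fact p.Prime]

/-- The character of one orbit. -/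
theorem exists_orbit_char (hcop : (Nat.card Q).Coprime p) (hidx : ∃ k : ℕ, Q.index = p ^ k)
    {θ : Q → ℂ} (hθ : IsIrrCharacter Q θ) :
    ∃ ψ : H → ℂ, IsCharacter H ψ ∧ (fun q : Q => ψ q) = ∑ φ ∈ orbit Q θ, φ ∧
      ∀ h : H, (∃ e : ℕ, orderOf h = p ^ e) → ∀ k : ℕ, k.Coprime p → ψ (h ^ k) = ψ h := by
  classical
  set K := inertia Q θ with hK
  have hQK : Q ≤ K := le_inertia Q (isClassFunction_of_isCharacter (isCharacter_of_isIrr hθ))
  set N := Q.subgroupOf K with hN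
  let θ' : N → ℂ := fun x => θ (Subgroup.subgroupOfEquivOfLe hQK x)
  have hθ' : IsIrrCharacter N θ' := isIrrCharacter_comp_mulEquiv (Subgroup.subgroupOfEquivOfLe hQK) hθ
  have hinv : ∀ g : K, conjBy N θ' g = θ' := by
    intro g
    funext x
    exact (mem_inertia_iff Q).mp g.2 (Subgroup.subgroupOfEquivOfLe hQK x)
  have hcN : Nat.card N = Nat.card Q := Nat.card_congr (Subgroup.subgroupOfEquivOfLe hQK).toEquiv
  have hNcop : N.index.Coprime (Nat.card N) := by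
    rw [hcN]
    obtain ⟨k, hk⟩ := hidx
    refine Nat.Coprime.coprime_dvd_left (?_ : N.index ∣ p ^ k) (hcop.symm.pow_left k)
    rw [← hk]
    exact Subgroup.relIndex_dvd_index_of_normal Q K
  obtain ⟨η, hη, hres, hdet⟩ := exists_power_extension N hθ' hinv hNcop
  have hrat : ∀ y : K, (∃ e : ℕ, orderOf y = p ^ e) → ∀ k : ℕ, k.Coprime p → η (y ^ k) = η y := by
    rintro y ⟨e, he⟩ k hk
    have hmn : (orderOf y).Coprime (Nat.card N) := by
      rw [he, hcN]; exact (hcop.symm).pow_left e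
    obtain ⟨k', hk'1, hk'2, hk'3⟩ := exists_coprime_exponent (Nat.card_pos (α := K)).ne' hmn
      (hmn.mul_dvd_of_dvd_of_dvd (orderOf_dvd_natCard y) N.card_subgroup_dvd_card)
      (k := k) (by rw [he]; exact hk.pow_right e)
    rw [pow_eq_pow_iff_modEq.mpr hk'2.symm]
    refine congrFun (power_extension_unique N hθ' hNcop hη (isIrrCharacter_pow hk'1 hη) hres
      (fun n => ?_) hdet (fun x => ?_)) y
    · rw [pow_eq_self_of_modEq_one (Subgroup.orderOf_dvd_natCard N n.2) hk'3, hres]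
    · rw [detChar_pow (isCharacter_of_isIrr hη) hk'1, ← pow_mul, mul_comm, pow_mul, hdet, one_pow]
  refine ⟨indFun K η, isCharacter_indFun K (isCharacter_of_isIrr hη), ?_, ?_⟩
  · have e : ∀ q : Q, ∀ x : H, extendByZero K η (x⁻¹ * q * x) = conjBy Q θ x⁻¹ q := by
      intro q x
      have hq' : x⁻¹ * (q : H) * x ∈ Q := by
        simpa using hQn.conj_mem (q : H) q.2 x⁻¹
      rw [extendByZero_mem K η (hQK hq'), conjBy_apply]
      have := hres ⟨⟨x⁻¹ * (q : H) * x, hQK hq'⟩, hq'⟩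
      refine this.trans (congrArg θ (Subtype.ext ?_))
      simp
    funext q
    rw [indFun, Finset.sum_congr rfl fun x _ => e q x]
    have := congrFun (sum_conjBy Q θ) q
    rw [Finset.sum_apply] at this
    rw [Fintype.sum_equiv (Equiv.inv H) (fun x => conjBy Q θ x⁻¹ q) (fun x => conjBy Q θ x q)
      (fun x => rfl), this, Pi.smul_apply, smul_eq_mul, ← mul_assoc,
      inv_mul_cancel₀ (Nat.cast_ne_zero.mpr Nat.card_pos.ne'), one_mul]
  · rintro h ⟨e, he⟩ k hk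
    simp only [indFun]
    congr 1
    refine Finset.sum_congr rfl fun x _ => ?_
    have hc : x⁻¹ * h ^ k * x = (x⁻¹ * h * x) ^ k := by
      have := conj_pow (i := k) (a := x⁻¹) (b := h)
      rw [inv_inv] at this
      exact this.symm
    have ho : orderOf (x⁻¹ * h * x) = p ^ e := by
      rw [← he]
      have := MulEquiv.orderOf_eq (MulAut.conj x⁻¹) h
      simpa using this
    rw [hc]
    by_cases hx : x⁻¹ * h * x ∈ K
    · rw [extendByZero_mem K η hx, extendByZero_mem K η (K.pow_mem hx k)]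
      exact hrat ⟨_, hx⟩ ⟨e, by rw [Subgroup.orderOf_mk]; exact ho⟩ k hk
    · rw [extendByZero_notMem K η hx, extendByZero_notMem K η fun hm => hx ?_]
      obtain ⟨j, hj⟩ := exists_pow_eq_self_of_coprime (x := x⁻¹ * h * x) (n := k)
        (by rw [ho]; exact hk.pow_right e)
      exact hj ▸ K.pow_mem hm j

/-- Orbit by orbit. -/
theorem exists_char_of_stable (hcop : (Nat.card Q).Coprime p) (hidx : ∃ k : ℕ, Q.index = p ^ k)
    (S : Finset (Q → ℂ)) (hirr : ∀ φ ∈ S, IsIrrCharacter Q φ)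
    (hcl : ∀ φ ∈ S, ∀ g : H, conjBy Q φ g ∈ S) :
    ∃ ψ : H → ℂ, IsCharacter H ψ ∧ (fun q : Q => ψ q) = ∑ φ ∈ S, φ ∧
      ∀ h : H, (∃ e : ℕ, orderOf h = p ^ e) → ∀ k : ℕ, k.Coprime p → ψ (h ^ k) = ψ h := by
  classical
  induction S using Finset.strongInduction with
  | _ S ih =>
    rcases S.eq_empty_or_nonempty with rfl | ⟨θ, hθ⟩
    · exact ⟨0, isCharacter_zero, by funext q; simp, fun _ _ _ _ => rfl⟩
    have hsub : orbit Q θ ⊆ S := fun φ hφ => by
      obtain ⟨g, rfl⟩ := (mem_orbit Q).mp hφ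
      exact hcl θ hθ g
    obtain ⟨ψ₁, h₁, r₁, q₁⟩ := exists_orbit_char Q hcop hidx (hirr θ hθ)
    obtain ⟨ψ₂, h₂, r₂, q₂⟩ := ih (S \ orbit Q θ)
      (Finset.sdiff_ssubset hsub ⟨θ, self_mem_orbit Q θ⟩)
      (fun φ hφ => hirr φ (Finset.mem_sdiff.mp hφ).1)
      (fun φ hφ g => Finset.mem_sdiff.mpr ⟨hcl φ (Finset.mem_sdiff.mp hφ).1 g, fun hm =>
        (Finset.mem_sdiff.mp hφ).2 (by
          obtain ⟨a, ha⟩ := (mem_orbit Q).mp hm
          exact (mem_orbit Q).mpr ⟨a * g⁻¹, by rw [conjBy_mul, ha, ← conjBy_mul, mul_inv_cancel, conjBy_one]⟩)⟩)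
    refine ⟨ψ₁ + ψ₂, isCharacter_add h₁ h₂, ?_, fun h he k hk => ?_⟩
    · rw [← Finset.sum_sdiff hsub, add_comm, ← r₁, ← r₂]
      rfl
    · rw [Pi.add_apply, Pi.add_apply, q₁ h he k hk, q₂ h he k hk]

/-- The character. -/
theorem exists_small_char (hcop : (Nat.card Q).Coprime p) (hidx : ∃ k : ℕ, Q.index = p ^ k)
    {χ : H → ℂ} (hχ : IsCharacter H χ) {n : ℕ} (hn : χ 1 = n)
    (hfaith : ∀ q ∈ Q, χ q = χ 1 → q = 1) :
    ∃ ψ : H → ℂ, IsCharacter H ψ ∧ (∃ m : ℕ, m ≤ n ∧ ψ 1 = m) ∧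
      (∀ q ∈ Q, ψ q = ψ 1 → q = 1) ∧
      ∀ h : H, (∃ e : ℕ, orderOf h = p ^ e) → ∀ k : ℕ, k.Coprime p → ψ (h ^ k) = ψ h := by
  classical
  haveI := Fintype.ofFinite Q
  have hres := isCharacter_restrict Q hχ
  obtain ⟨c, hc⟩ := exists_multiplicities hres
  have hcφ : ∀ φ : IrrCharacter Q, classInner (fun q : Q => χ q) (φ : Q → ℂ) = (c φ : ℂ) := fun φ => by
    rw [hc]; exact classInner_sum_smul_irr _ φ
  set T := Finset.univ.filter fun φ : IrrCharacter Q => c φ ≠ 0 with hT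
  set S : Finset (Q → ℂ) := T.image Subtype.val with hS
  have hdeg : ∀ φ : IrrCharacter Q, ∃ d : ℕ, (φ : Q → ℂ) 1 = d := fun φ => by
    obtain ⟨d, -, hd⟩ := exists_nat_degree_irr φ.2
    exact ⟨d, hd⟩
  choose d hd using hdeg
  obtain ⟨ψ, hψ, hψres, hψrat⟩ := exists_char_of_stable Q hcop hidx S
    (fun φ hφ => by
      obtain ⟨φ', -, rfl⟩ := Finset.mem_image.mp hφ
      exact φ'.2)
    (fun φ hφ g => by
      obtain ⟨φ', hφ', rfl⟩ := Finset.mem_image.mp hφ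
      refine Finset.mem_image.mpr ⟨⟨_, isIrrCharacter_conjBy Q φ'.2 g⟩, Finset.mem_filter.mpr
        ⟨Finset.mem_univ _, ?_⟩, rfl⟩
      have h1 := hcφ ⟨_, isIrrCharacter_conjBy Q φ'.2 g⟩
      rw [← conjBy_restrict Q (isClassFunction_of_isCharacter hχ) g, classInner_conjBy, hcφ φ'] at h1
      rw [← Nat.cast_inj.mp h1]
      exact (Finset.mem_filter.mp hφ').2)
  have hψq : ∀ q : Q, ψ q = ∑ φ ∈ T, (φ : Q → ℂ) q := fun q => by
    have := congrFun hψres q
    rw [this, Finset.sum_apply, hS, Finset.sum_image fun a _ b _ e => Subtype.ext e]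
  have hψ1 : ψ 1 = ((∑ φ ∈ T, d φ : ℕ) : ℂ) := by
    rw [← Q.coe_one, hψq, Nat.cast_sum]
    exact Finset.sum_congr rfl fun φ _ => hd φ
  have hχq : ∀ q : Q, χ q = ∑ φ ∈ T, (c φ : ℂ) * (φ : Q → ℂ) q := fun q => by
    have := congrFun hc q
    rw [this, Finset.sum_apply, hT, Finset.sum_filter]
    refine Finset.sum_congr rfl fun φ _ => ?_
    split_ifs with h <;> simp_all
  have hn' : n = ∑ φ ∈ T, c φ * d φ := by
    have := hχq 1
    rw [Q.coe_one, hn] at this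
    have e : (n : ℂ) = ((∑ φ ∈ T, c φ * d φ : ℕ) : ℂ) := by
      rw [this, Nat.cast_sum]
      exact Finset.sum_congr rfl fun φ _ => by rw [hd, Nat.cast_mul]
    exact_mod_cast e
  refine ⟨ψ, hψ, ⟨_, ?_, hψ1⟩, fun q hq he => hfaith q hq ?_, hψrat⟩
  · rw [hn']
    exact Finset.sum_le_sum fun φ hφ =>
      Nat.le_mul_of_pos_left _ (Nat.pos_of_ne_zero (Finset.mem_filter.mp hφ).2)
  · have hle : ∀ φ : IrrCharacter Q, ((φ : Q → ℂ) ⟨q, hq⟩).re ≤ d φ ∧
        ‖(φ : Q → ℂ) ⟨q, hq⟩‖ ≤ d φ := by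
      intro φ
      obtain ⟨k, ρ, -, hρ⟩ := φ.2
      have h1 := norm_character_le ρ ⟨q, hq⟩
      have hk : (k : ℂ) = d φ := by rw [← hd φ, ← hρ, Representation.char_one]; simp
      have hk' : k = d φ := by exact_mod_cast hk
      rw [hρ] at h1
      have h2 : ‖(φ : Q → ℂ) ⟨q, hq⟩‖ ≤ d φ := le_trans h1 (by simp [hk'])
      exact ⟨(Complex.re_le_norm _).trans h2, h2⟩
    have hsum : ∑ φ ∈ T, ((φ : Q → ℂ) ⟨q, hq⟩).re = ∑ φ ∈ T, (d φ : ℝ) := by
      have h1 : ψ q = ((∑ φ ∈ T, d φ : ℕ) : ℂ) := he.trans hψ1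
      rw [show q = ((⟨q, hq⟩ : Q) : H) from rfl, hψq] at h1
      rw [← Complex.re_sum, h1]
      simp
    have heq := (Finset.sum_eq_sum_iff_of_le fun φ _ => (hle φ).1).mp hsum
    have hval : ∀ φ ∈ T, (φ : Q → ℂ) ⟨q, hq⟩ = (φ : Q → ℂ) 1 := by
      intro φ hφ
      set z := (φ : Q → ℂ) ⟨q, hq⟩
      have h3 : z.re = ‖z‖ := le_antisymm (Complex.re_le_norm _) ((hle φ).2.trans (heq φ hφ).ge)
      rw [hd φ]
      refine Complex.ext (by simpa using heq φ hφ) ?_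
      simpa using (Complex.re_eq_norm.mp h3).2.symm
    rw [show q = ((⟨q, hq⟩ : Q) : H) from rfl, hχq, ← Q.coe_one, hχq]
    exact Finset.sum_congr rfl fun φ hφ => by rw [hval φ hφ]

end CfsgLib.LinearPSolvable
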