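import Cfsg.Agent.Lib.LinearPSolvable.RationalPGroup
import Cfsg.Agent.Lib.LinearPSolvable.CoprimeChar
import Cfsg.Agent.Lib.TI.FaithfulDegree
import Cfsg.Agent.Lib.ZJ.RealElements
import Cfsg.Agent.Lib.Coprime.SchurZassenhaus

/-!
# The index of the `p`-core in a `p`-solvable linear group
-/

set_option autoImplicit false

namespace CfsgLib.LinearPSolvable

open Cfsg CfsgLib.Char
open scoped Pointwise

variable {G : Type*} [Group G] [Finite G] {p : ℕ} [hp : Fact p.Prime]

/-- A `p'`-subgroup `Q` whose normalizer covers `G / O_p(G)` and whose image there is `O_{p'}`. -/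
theorem exists_complement (R : Subgroup G) [R.Normal] (hR : IsPGroup p R) :
    ∃ Q : Subgroup G, (Nat.card Q).Coprime p ∧
      Q.map (QuotientGroup.mk' R) = Cfsg.pPrimeCore p (G ⧸ R) ∧
      ∀ g : G, ∃ r ∈ R, r⁻¹ * g ∈ Subgroup.normalizer (Q : Set G) := by
  haveI := Transfer.pPrimeCore_normal p (G ⧸ R)
  set f := QuotientGroup.mk' R with hf
  set K := Cfsg.pPrimeCore p (G ⧸ R) with hK
  set N := K.comap f with hN
  have hRN : R ≤ N := fun r hr => by
    show f r ∈ K
    rw [show f r = 1 from (QuotientGroup.eq_one_iff r).mpr hr]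
    exact K.one_mem
  obtain ⟨a, ha⟩ := hR.exists_card_eq
  have hNK : Nat.card N = Nat.card R * Nat.card K := by
    rw [hN, PSolvable.card_comap_of_surjective (QuotientGroup.mk'_surjective R) K,
      QuotientGroup.ker_mk']
  have hRc : Nat.card (R.subgroupOf N) = Nat.card R :=
    Nat.card_congr (Subgroup.subgroupOfEquivOfLe hRN).toEquiv
  have hidx : (R.subgroupOf N).index = Nat.card K := by
    have := (R.subgroupOf N).card_mul_index
    rw [hRc, hNK] at this
    exact Nat.eq_of_mul_eq_mul_left Nat.card_pos this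
  have hKp : (Nat.card K).Coprime p := Transfer.pPrimeCore_coprime p
  obtain ⟨C, hC⟩ := Subgroup.exists_right_complement'_of_coprime (N := R.subgroupOf N)
    (by rw [hidx, hRc, ha]; exact hKp.symm.pow_left a)
  set Q := C.map N.subtype with hQ
  have hQc : Nat.card Q = Nat.card K := by
    rw [hQ, Subgroup.card_map_of_injective N.subtype_injective]
    refine Nat.eq_of_mul_eq_mul_left (Nat.card_pos (α := R)) ?_
    rw [← hNK, ← hRc]
    exact hC.card_mul
  have hsup : R ⊔ Q = N := by
    have := congrArg (Subgroup.map N.subtype) hC.sup_eq_top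
    rwa [Subgroup.map_sup, Subgroup.map_subgroupOf_eq_of_le hRN, ← MonoidHom.range_eq_map,
      Subgroup.range_subtype, ← hQ] at this
  have hQp : (Nat.card Q).Coprime p := hQc ▸ hKp
  refine ⟨Q, hQp, ?_, fun g => ?_⟩
  · have := congrArg (Subgroup.map f) hsup
    rwa [Subgroup.map_sup, hN, Subgroup.map_comap_eq_self_of_surjective (QuotientGroup.mk'_surjective R),
      show R.map f = ⊥ from (Subgroup.map_eq_bot_iff _).mpr (QuotientGroup.ker_mk' R).ge, bot_sup_eq]
      at this
  · have hcop : (Nat.card R).Coprime (Nat.card Q) := by rw [ha]; exact hQp.symm.pow_left a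
    haveI : N.Normal := Subgroup.Normal.comap (Transfer.pPrimeCore_normal p (G ⧸ R)) f
    have hsup' : R ⊔ Q = R ⊔ MulAut.conj g • Q := by
      have h1 := Coprime.sup_conj_smul (g := g) (N := R) (H := Q)
      rw [hsup, Subgroup.Normal.conj_smul_eq_self g R, Subgroup.Normal.conj_smul_eq_self g N] at h1
      rw [hsup]; exact h1
    haveI := hR.isNilpotent
    obtain ⟨r, hr, hre⟩ := Coprime.exists_conj_of_coprime Subgroup.le_normalizer_of_normal hcop
      (by rw [Coprime.card_conj_smul]; exact hcop) hsup' (Or.inl inferInstance)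
    refine ⟨r, hr, Coprime.mem_normalizer_iff_conj_smul.mpr ?_⟩
    rw [map_mul, mul_smul, ← hre, ← mul_smul, ← map_mul, inv_mul_cancel, map_one, one_smul]

/-- The bound. -/
theorem factorization_index_pCore_le (hsolv : Cfsg.IsPSolvable p G) {χ : G → ℂ}
    (hχ : IsCharacter G χ) (hfaith : ∀ g : G, χ g = χ 1 → g = 1) {n : ℕ} (hn : χ 1 = n) :
    (Cfsg.pCore p G).index.factorization p ≤ ∑ i ∈ Finset.range (n + 1), n / ((p - 1) * p ^ i) := by
  classical
  haveI := Fitting.pCore_normal (G := G) p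
  set R := Cfsg.pCore p G with hR
  set f := QuotientGroup.mk' R with hf
  have hfs : Function.Surjective f := QuotientGroup.mk'_surjective R
  obtain ⟨Q, hQp, hQmap, hQfr⟩ := exists_complement R (Fitting.pCore_isPGroup p)
  set L := Subgroup.normalizer (Q : Set G) with hL
  have hgs : Function.Surjective (f.comp L.subtype) := by
    intro x
    obtain ⟨g, rfl⟩ := hfs x
    obtain ⟨r, hr, hg⟩ := hQfr g
    refine ⟨⟨_, hg⟩, ?_⟩
    show f (r⁻¹ * g) = f g
    rw [map_mul, map_inv, show f r = 1 from (QuotientGroup.eq_one_iff r).mpr hr, inv_one, one_mul]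
  let P₀ : Sylow p L := default
  let P := P₀.mapSurjective hgs
  set A := (P₀ : Subgroup L).map L.subtype with hA
  have hAp : IsPGroup p A := P₀.2.map L.subtype
  have hAL : A ≤ L := Subgroup.map_subtype_le _
  have hAmap : A.map f = (P : Subgroup (G ⧸ R)) := by
    rw [hA, Subgroup.map_map]; rfl
  set H := A ⊔ Q with hH
  haveI := Fintype.ofFinite H
  haveI hQn : (Q.subgroupOf H).Normal := by
    rw [Subgroup.normal_subgroupOf_iff_le_normalizer le_sup_right]
    exact sup_le hAL Subgroup.le_normalizer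
  have hQc : Nat.card (Q.subgroupOf H) = Nat.card Q :=
    Nat.card_congr (Subgroup.subgroupOfEquivOfLe (le_sup_right : Q ≤ H)).toEquiv
  obtain ⟨a, ha⟩ := hAp.exists_card_eq
  have hidx : ∃ k : ℕ, (Q.subgroupOf H).index = p ^ k := by
    refine ⟨a, ?_⟩
    have h1 : Nat.card H = Nat.card Q * Nat.card A := by
      rw [hH, sup_comm]
      exact Coprime.card_sup_of_coprime hAL (by rw [ha]; exact hQp.pow_right a)
    have h2 := (Q.subgroupOf H).card_mul_index
    rw [hQc, h1, ha] at h2
    exact Nat.eq_of_mul_eq_mul_left Nat.card_pos h2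
  obtain ⟨ψ, hψ, ⟨m, hmn, hψ1⟩, hψf, hψr⟩ := exists_small_char (Q.subgroupOf H) (hQc ▸ hQp) hidx
    (χ := fun h : H => χ h) (isCharacter_restrict H hχ) (n := n) hn
    (fun q _ he => Subtype.ext (hfaith q he))
  obtain ⟨KH, hKHn, hKH, -⟩ := exists_kernel hψ
  let ι : A →* H := Subgroup.inclusion le_sup_left
  have hψA : IsCharacter A (fun x => ψ (ι x)) := isCharacter_comp ι hψ
  have hψA1 : ψ (ι 1) = (m : ℂ) := by rw [map_one, hψ1]
  obtain ⟨KA, -, hKA, -⟩ := exists_kernel hψA
  have hbound := index_kernel_le hAp hψA (fun x k hk => by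
    show ψ (ι (x ^ k)) = ψ (ι x)
    rw [map_pow]
    obtain ⟨e, he⟩ := hAp x
    obtain ⟨j, -, hj⟩ := (Nat.dvd_prime_pow hp.out).mp (orderOf_dvd_of_pow_eq_one he)
    exact hψr (ι x) ⟨j, (orderOf_injective ι (Subgroup.inclusion_injective _) x).trans hj⟩ k hk)
    hψA1 hmn KA hKA
  -- the kernel acts trivially on `Q`, so it dies modulo `R`
  have hker : KA ≤ (f.comp A.subtype).ker := by
    intro x hx
    have hxK : ι x ∈ KH := (hKH _).mpr (by have := (hKA x).mp hx; rwa [map_one] at this)
    have hcomm : ∀ q ∈ Q, q * (x : G) = x * q := by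
      intro q hq
      set q' : H := ⟨q, Subgroup.mem_sup_right hq⟩
      have hq'Q : q' ∈ Q.subgroupOf H := Subgroup.mem_subgroupOf.mpr hq
      have h1 : q' * ι x * q'⁻¹ * (ι x)⁻¹ ∈ KH :=
        KH.mul_mem (hKHn.conj_mem _ hxK q') (KH.inv_mem hxK)
      have h2 : q' * ι x * q'⁻¹ * (ι x)⁻¹ ∈ Q.subgroupOf H := by
        have := hQn.conj_mem q'⁻¹ (inv_mem hq'Q) (ι x)
        simpa [mul_assoc] using (Q.subgroupOf H).mul_mem hq'Q this
      have h3 := hψf _ h2 ((hKH _).mp h1)
      rw [mul_inv_eq_one, mul_inv_eq_iff_eq_mul] at h3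
      exact congrArg Subtype.val h3
    have hcK : f x ∈ Cfsg.pPrimeCore p (G ⧸ R) := by
      refine TIDegree.centralizer_pPrimeCore_le (PSolvable.isPSolvable_of_surjective f hfs hsolv)
        (le_bot_iff.mp ZJ.pCore_quotient_pCore_le_bot) ?_
      intro y hy
      rw [← hQmap] at hy
      obtain ⟨q, hq, rfl⟩ := hy
      rw [← map_mul, ← map_mul, hcomm q hq]
    show f (x : G) = 1
    rw [← orderOf_eq_one_iff]
    obtain ⟨e, he⟩ := hAp x
    have h1 : orderOf (f (x : G)) ∣ p ^ e := orderOf_dvd_of_pow_eq_one (by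
      rw [← map_pow, ← Subgroup.coe_pow, he, Subgroup.coe_one, map_one])
    exact Nat.eq_one_of_dvd_coprimes ((Transfer.pPrimeCore_coprime p).symm.pow_left e) h1
      (Subgroup.orderOf_dvd_natCard _ hcK)
  refine le_trans ?_ hbound
  have h1 := (Nat.factorization_le_iff_dvd Subgroup.index_ne_zero_of_finite
    Subgroup.index_ne_zero_of_finite).mpr (Subgroup.index_dvd_of_le hker) p
  refine le_trans (le_of_eq ?_) h1
  rw [Subgroup.index_ker, MonoidHom.range_comp, Subgroup.range_subtype, hAmap,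
    P.card_eq_multiplicity, hp.out.factorization_pow, Finsupp.single_eq_same, Subgroup.index]

end CfsgLib.LinearPSolvable
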