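import Cfsg.Agent.Lib.Char.Galois
import Cfsg.Agent.Lib.Char.Kernel
import Cfsg.Agent.Lib.Char.Virtual
import Cfsg.Agent.Lib.Blocks.Sections
import Cfsg.Agent.Lib.Blocks.BrauerFeit
import Mathlib.NumberTheory.Padics.PadicVal.Basic

/-!
# Schur's bound for a rational-valued character of a `p`-group

If a character of degree `m` of a `p`-group takes equal values at the generators of each cyclic
subgroup, then `m - ψ a` is `p * t` with `t ≤ m / (p - 1)`, and Blichfeldt's product bounds the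
index of the kernel.
-/

set_option autoImplicit false

namespace CfsgLib.LinearPSolvable

open Cfsg CfsgLib.Char CfsgLib.Blocks

variable {A : Type*} [Group A] [Finite A]

theorem sum_eq_card_mul {ψ : A → ℂ} (hψ : IsCharacter A ψ) {m : ℕ} (hm : ψ 1 = m)
    (H : Subgroup A) [Fintype H] :
    ∃ f : ℕ, f ≤ m ∧ ∑ h : H, ψ h = (Nat.card H : ℂ) * f := by
  obtain ⟨k, ρ, rfl⟩ := hψ
  have hk : k = m := by
    rw [Representation.char_one] at hm
    simpa using hm
  subst hk
  let σ : Representation ℂ H (Fin k → ℂ) := ρ.comp H.subtype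
  haveI : Invertible (Nat.card H : ℂ) := invertibleOfNonzero (Nat.cast_ne_zero.mpr Nat.card_pos.ne')
  have h := Representation.card_inv_mul_sum_char_eq_finrank σ
  refine ⟨Module.finrank ℂ σ.invariants, ?_, ?_⟩
  · have := σ.invariants.finrank_le
    simpa using this
  · rw [← h, ← mul_assoc, mul_inv_cancel₀ (Nat.cast_ne_zero.mpr Nat.card_pos.ne'), one_mul]
    rfl

variable {p : ℕ} [hp : Fact p.Prime]

theorem exists_int_value (hA : IsPGroup p A) {ψ : A → ℂ} (hψ : IsCharacter A ψ)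
    (hrat : ∀ (a : A) (k : ℕ), k.Coprime p → ψ (a ^ k) = ψ a) (a : A) :
    ∃ v : ℤ, ψ a = v := by
  have h : ∀ k : ℕ, k.Coprime (Nat.card A) → ψ (a ^ k) = ψ a := by
    intro k hk
    obtain ⟨n, hn⟩ := hA.exists_card_eq
    rcases Nat.eq_zero_or_pos n with rfl | hn0
    · have : a = 1 := by
        haveI := (Nat.card_eq_one_iff_unique.mp (hn.trans (pow_zero p))).1
        exact Subsingleton.elim _ _
      rw [this, one_pow]
    · exact hrat a k (hk.coprime_dvd_right (hn ▸ dvd_pow_self p hn0.ne'))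
  obtain ⟨q, hq⟩ := (rat_value_iff hψ a).mpr h
  obtain ⟨v, hv⟩ := exists_int_of_isIntegral_rat (hq ▸ isIntegral_value hψ a)
  exact ⟨v, by rw [hq, hv]; simp⟩

theorem res_natCast' {M : Ideal AlgInt} [M.IsPrime] (n : ℕ) :
    res M (n : ℂ) = (n : ResField M) := by
  induction n with
  | zero => rw [Nat.cast_zero, Nat.cast_zero, res_zero]
  | succ n ih => rw [Nat.cast_succ, Nat.cast_succ, res_add (memLocalRing_natCast n) memLocalRing_one, ih, res_one]

/-- Integer values of characters at `p`-elements are congruent to the degree. -/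
theorem dvd_of_value_eq {ψ : A → ℂ} (hψ : IsCharacter A ψ) {m d : ℕ} (hm : ψ 1 = m) {a : A}
    (ha : ∃ e : ℕ, a ^ p ^ e = 1) (hd : ψ a = (m : ℂ) - d) : p ∣ d := by
  obtain ⟨M, hM⟩ := exists_isPModular hp.out
  haveI := isPrime_of_isPModular hM
  haveI := charP_resField hM
  obtain ⟨e, he⟩ := ha
  obtain ⟨k, ρ, rfl⟩ := hψ
  obtain ⟨μ, h1, h2⟩ := Char.character_pow_eq_sum ρ a
  have hi : ∀ i, IsIntegral ℤ (μ i) := fun i =>
    IsIntegral.of_pow (orderOf_pos a) (h1 i ▸ isIntegral_one)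
  have key : res M (ρ.character a) ^ p ^ e = res M (ρ.character (a ^ p ^ e)) := by
    rw [show ρ.character a = ∑ i, μ i by simpa using h2 1, h2,
      res_sum _ _ fun i _ => memLocalRing_of_isIntegral (hi i),
      res_sum _ _ fun i _ => memLocalRing_of_isIntegral ((hi i).pow _), sum_pow_char_pow]
    exact Finset.sum_congr rfl fun i _ => (res_pow (memLocalRing_of_isIntegral (hi i)) _).symm
  have hfix : ∀ n : ℕ, ((n : ResField M)) ^ p ^ e = n := fun n => by
    rw [← iterateFrobenius_def, map_natCast]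
  rw [he, hm, hd, res_sub (memLocalRing_natCast m) (memLocalRing_natCast d), res_natCast',
    res_natCast', sub_pow_char_pow, hfix, hfix, sub_eq_self] at key
  exact (CharP.cast_eq_zero_iff (ResField M) p d).mp key

/-- The values off the kernel. -/
theorem exists_drop (hA : IsPGroup p A) {ψ : A → ℂ} (hψ : IsCharacter A ψ)
    (hrat : ∀ (a : A) (k : ℕ), k.Coprime p → ψ (a ^ k) = ψ a) {m : ℕ} (hm : ψ 1 = m) {a : A}
    (ha : ψ a ≠ ψ 1) : ∃ t : ℕ, 1 ≤ t ∧ t ≤ m / (p - 1) ∧ ψ a = (m : ℂ) - (p * t : ℕ) := by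
  classical
  obtain ⟨v, hv⟩ := exists_int_value hA hψ hrat a
  have hvm : v ≤ m := by
    obtain ⟨k, ρ, hρ⟩ := hψ
    have h1 := norm_character_le ρ a
    rw [hρ, hv, Complex.norm_intCast] at h1
    have hk : (k : ℂ) = m := by rw [← hm, ← hρ, Representation.char_one]; simp
    have hk' : k = m := by exact_mod_cast hk
    have h2 : (v : ℝ) ≤ (m : ℝ) := (le_abs_self _).trans (le_trans h1 (by simp [hk']))
    exact_mod_cast h2
  obtain ⟨d, hd⟩ : ∃ d : ℕ, (d : ℤ) = m - v := ⟨(m - v).toNat, Int.toNat_of_nonneg (by omega)⟩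
  have hd' : ψ a = (m : ℂ) - d := by
    have : (v : ℤ) = m - d := by omega
    rw [hv, this]; push_cast; ring
  obtain ⟨t, rfl⟩ := dvd_of_value_eq hψ hm (hA a) hd'
  refine ⟨t, ?_, ?_, hd'⟩
  · by_contra h
    have : t = 0 := by omega
    rw [this, mul_zero, Nat.cast_zero, sub_zero] at hd'
    exact ha (hd'.trans hm.symm)
  -- the bound from the sums over `⟨a⟩` and `⟨a ^ p⟩`
  set C := Subgroup.zpowers a with hC
  set C' := Subgroup.zpowers (a ^ p) with hC'
  have hC'C : C' ≤ C := Subgroup.zpowers_le.mpr (pow_mem (Subgroup.mem_zpowers a) p)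
  haveI := Fintype.ofFinite C
  haveI := Fintype.ofFinite C'
  obtain ⟨f, -, hf⟩ := sum_eq_card_mul hψ hm C
  obtain ⟨f', hf'm, hf'⟩ := sum_eq_card_mul hψ hm C'
  obtain ⟨e, he⟩ : ∃ e, orderOf a = p ^ (e + 1) := by
    obtain ⟨k, hk⟩ := hA a
    obtain ⟨j, -, hj⟩ := (Nat.dvd_prime_pow hp.out).mp (orderOf_dvd_of_pow_eq_one hk)
    rcases j with _ | j
    · rw [pow_zero, orderOf_eq_one_iff] at hj
      exact absurd (by rw [hj]) ha
    · exact ⟨j, hj⟩
  have hcC : Nat.card C = p ^ (e + 1) := by rw [hC, Nat.card_zpowers, he]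
  have hcC' : Nat.card C' = p ^ e := by
    rw [hC', Nat.card_zpowers, orderOf_pow_of_dvd hp.out.ne_zero (he ▸ dvd_pow_self p (by omega)),
      he, pow_succ, Nat.mul_div_cancel _ hp.out.pos]
  have hrest : ∀ c : C, (c : A) ∉ C' → ψ c = ψ a := by
    rintro ⟨c, hc⟩ hn
    obtain ⟨k, -, rfl⟩ := (mem_zpowers_iff_mem_range_orderOf).mp hc |> Finset.mem_image.mp
    refine hrat a k ?_
    rw [Nat.coprime_comm]
    refine hp.out.coprime_iff_not_dvd.mpr fun ⟨l, hl⟩ => hn ?_
    show a ^ k ∈ C'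
    rw [hl, pow_mul]
    exact pow_mem (Subgroup.mem_zpowers _) l
  have hin : ∑ c ∈ Finset.univ.filter (fun c : C => (c : A) ∈ C'), ψ c = ∑ c : C', ψ c :=
    Finset.sum_bij' (fun c hc => (⟨c, (Finset.mem_filter.mp hc).2⟩ : C'))
      (fun c _ => (⟨c, hC'C c.2⟩ : C)) (by simp) (fun c _ => by simp [c.2]) (by simp) (by simp)
      (by simp)
  have hcnt : (Finset.univ.filter (fun c : C => (c : A) ∈ C')).card = p ^ e := by
    rw [← hcC', Nat.card_eq_fintype_card, ← Finset.card_univ]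
    exact Finset.card_bij' (fun c hc => (⟨c, (Finset.mem_filter.mp hc).2⟩ : C'))
      (fun c _ => (⟨c, hC'C c.2⟩ : C)) (by simp) (fun c _ => by simp [c.2]) (by simp) (by simp)
  have hcnt' : (Finset.univ.filter (fun c : C => ¬ (c : A) ∈ C')).card + p ^ e = p ^ (e + 1) := by
    rw [← hcnt, add_comm, Finset.card_filter_add_card_filter_not, Finset.card_univ,
      ← Nat.card_eq_fintype_card, hcC]
  rw [← Finset.sum_filter_add_sum_filter_not Finset.univ (fun c : C => (c : A) ∈ C'), hin, hf',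
    Finset.sum_congr rfl (fun c hc => hrest c (Finset.mem_filter.mp hc).2), Finset.sum_const, hd',
    hcC, hcC', nsmul_eq_mul] at hf
  set r := (Finset.univ.filter (fun c : C => ¬ (c : A) ∈ C')).card
  have hZ : (p ^ e : ℤ) * f' + r * ((m : ℤ) - p * t) = (p ^ (e + 1) : ℤ) * f := by
    have : (((p ^ e : ℤ) * f' + r * ((m : ℤ) - p * t) : ℤ) : ℂ) = (((p ^ (e + 1) : ℤ) * f : ℤ) : ℂ) := by
      push_cast at hf ⊢
      linear_combination hf
    exact_mod_cast this
  have hr : (r : ℤ) = (p : ℤ) ^ e * ((p : ℤ) - 1) := by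
    have : (r : ℤ) + (p : ℤ) ^ e = (p : ℤ) ^ (e + 1) := by exact_mod_cast hcnt'
    rw [pow_succ] at this; linarith
  have hpe : (0 : ℤ) < (p : ℤ) ^ e := pow_pos (by exact_mod_cast hp.out.pos) e
  rw [hr, pow_succ] at hZ
  have h3 : (f' : ℤ) + ((p : ℤ) - 1) * ((m : ℤ) - p * t) = p * f :=
    mul_left_cancel₀ hpe.ne' (by linear_combination hZ)
  have h4 : (f' : ℤ) ≤ m := by exact_mod_cast hf'm
  have hp1 : (1 : ℤ) ≤ p := by exact_mod_cast hp.out.one_lt.le
  have hp0 : (0 : ℤ) < p := by linarith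
  have h5 : (p : ℤ) * (((p : ℤ) - 1) * t) ≤ p * m := by
    have : (0 : ℤ) ≤ p * f := by positivity
    nlinarith
  have h6 := le_of_mul_le_mul_left h5 hp0
  rw [Nat.le_div_iff_mul_le (by have := hp.out.two_le; omega)]
  have : ((t * (p - 1) : ℕ) : ℤ) ≤ m := by
    push_cast [Nat.cast_sub hp.out.one_lt.le]
    linarith
  exact_mod_cast this

/-- `v_p (∏_{t ≤ N} p t)` is Schur's exponent. -/
theorem factorization_prod_le {n N : ℕ} (hN : N ≤ n / (p - 1)) :
    (p ^ N * N.factorial).factorization p ≤ ∑ i ∈ Finset.range (n + 1), n / ((p - 1) * p ^ i) := by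
  rw [Nat.factorization_mul (pow_ne_zero _ hp.out.ne_zero) N.factorial_ne_zero, Finsupp.add_apply,
    hp.out.factorization_pow, Finsupp.single_eq_same]
  have hNn : N ≤ n := hN.trans (Nat.div_le_self _ _)
  rw [Nat.factorization_def _ hp.out,
    padicValNat_factorial (b := n + 1) (lt_of_le_of_lt ((Nat.log_le_self p N).trans hNn) n.lt_succ_self),
    Finset.range_eq_Ico, Finset.sum_eq_sum_Ico_succ_bot n.succ_pos]
  refine Nat.add_le_add (by simpa using hN) (Finset.sum_le_sum fun i _ => ?_)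
  rw [← Nat.div_div_eq_div_mul]
  exact Nat.div_le_div_right hN

/-- **Schur's bound.** -/
theorem index_kernel_le (hA : IsPGroup p A) {ψ : A → ℂ} (hψ : IsCharacter A ψ)
    (hrat : ∀ (a : A) (k : ℕ), k.Coprime p → ψ (a ^ k) = ψ a) {m n : ℕ} (hm : ψ 1 = m) (hmn : m ≤ n)
    (K : Subgroup A) (hK : ∀ a, a ∈ K ↔ ψ a = ψ 1) :
    K.index.factorization p ≤ ∑ i ∈ Finset.range (n + 1), n / ((p - 1) * p ^ i) := by
  classical
  haveI := Fintype.ofFinite A
  set N := m / (p - 1) with hN
  let F : A → ℂ := fun a => ∏ t ∈ Finset.Icc 1 N, (ψ a - ((m : ℂ) - (p * t : ℕ)))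
  have hF : IsGeneralizedCharacter A F := by
    suffices ∀ s : Finset ℕ, IsGeneralizedCharacter A
        (fun a => ∏ t ∈ s, (ψ a - ((m : ℂ) - (p * t : ℕ)))) from this _
    intro s
    induction s using Finset.induction with
    | empty => simpa using isGeneralized_one (G := A)
    | insert t s hts ih =>
      have h1 : IsGeneralizedCharacter A (fun a => ψ a - ((m : ℂ) - (p * t : ℕ))) := by
        have := isGeneralized_sub (isGeneralized_of_isCharacter hψ)
          (isGeneralized_intCast_smul (isGeneralized_one (G := A)) ((m : ℤ) - (p * t : ℕ)))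
        convert this using 1
        funext a; simp
      have h2 := isGeneralized_mul h1 ih
      convert h2 using 1
      funext a
      rw [Finset.prod_insert hts]
      rfl
  obtain ⟨z, hz⟩ := exists_int_classInner hF (isGeneralized_one (G := A))
  have h1 : ∀ a, a ∈ K → F a = ((p ^ N * N.factorial : ℕ) : ℂ) := by
    intro a ha
    have e : ∀ t ∈ Finset.Icc 1 N, ψ a - ((m : ℂ) - (p * t : ℕ)) = ((p * t : ℕ) : ℂ) := fun t _ => by
      rw [(hK a).mp ha, hm]; ring
    show ∏ t ∈ Finset.Icc 1 N, _ = _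
    rw [Finset.prod_congr rfl e, ← Nat.cast_prod, Finset.prod_mul_distrib, Finset.prod_const,
      Nat.card_Icc, ← Finset.prod_Ico_id_eq_factorial N, ← Finset.Ico_add_one_right_eq_Icc]
    simp
  have h0 : ∀ a, a ∉ K → F a = 0 := by
    intro a ha
    obtain ⟨t, ht1, ht2, ht⟩ := exists_drop hA hψ hrat hm (fun e => ha ((hK a).mpr e))
    exact Finset.prod_eq_zero (Finset.mem_Icc.mpr ⟨ht1, ht2⟩) (by rw [ht, sub_self])
  have hsum : ∑ a : A, F a = (Nat.card K : ℂ) * (p ^ N * N.factorial : ℕ) := by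
    rw [← Finset.sum_filter_add_sum_filter_not Finset.univ (fun a => a ∈ K),
      Finset.sum_eq_zero (fun a ha => h0 a (Finset.mem_filter.mp ha).2), add_zero,
      Finset.sum_congr rfl (fun a ha => h1 a (Finset.mem_filter.mp ha).2), Finset.sum_const,
      nsmul_eq_mul, ← Fintype.card_subtype, ← Nat.card_eq_fintype_card]
  have hdvd : K.index ∣ p ^ N * N.factorial := by
    have e : (Nat.card K : ℂ) * (p ^ N * N.factorial : ℕ) = (Nat.card A : ℂ) * z := by
      rw [← hsum, ← hz, classInner]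
      simp only [map_one, mul_one]
      rw [← mul_assoc, mul_inv_cancel₀ (Nat.cast_ne_zero.mpr Nat.card_pos.ne'), one_mul]
    have e' : (Nat.card K : ℤ) * (p ^ N * N.factorial : ℕ) = (Nat.card A : ℤ) * z := by
      exact_mod_cast e
    rw [← K.card_mul_index] at e'
    simp only [Nat.cast_mul (Nat.card K), mul_assoc] at e'
    have := mul_left_cancel₀ (Nat.cast_ne_zero.mpr (Nat.card_pos (α := K)).ne') e'
    exact Int.natCast_dvd_natCast.mp ⟨z, this⟩
  refine le_trans ?_ (factorization_prod_le (n := n) (Nat.div_le_div_right hmn))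
  exact ((Nat.factorization_le_iff_dvd K.index_ne_zero_of_finite
    (Nat.mul_ne_zero (pow_ne_zero _ hp.out.ne_zero) N.factorial_ne_zero)).mpr hdvd) p

end CfsgLib.LinearPSolvable
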